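import Groth.Agent.EtH1PBC.Classes
import Mathlib

/-!
# Pullback on étale cohomology and short exact sequences of coefficients
-/

set_option autoImplicit false
set_option backward.isDefEq.respectTransparency false
set_option backward.isDefEq.respectTransparency.types false
set_option linter.style.haveILetI false
set_option linter.auxLemma false

universe u

open CategoryTheory CategoryTheory.Limits CategoryTheory.Abelian AlgebraicGeometry Opposite
open Groth.Agent.EtMV (T T_comp T_comp_mk₀ T_mk₀)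

noncomputable section

namespace Groth.Agent.EtASLef

attribute [local instance 100000] EtCoh.H._proof_1 EtMV.hext
attribute [local instance 200000] EtMV.hextAb

variable {X Y : Scheme.{u}} (f : Y ⟶ X) [PreservesFiniteLimits (EtCoh.pull f)]

theorem Hpull_eq_T (G : EtCoh.Ab X) (n : ℕ) (x : EtCoh.H X G n) :
    EtCore.Hpull f G n x = T (EtCoh.pull f) (EtCore.pullConst f ℤ).inv G n x := rfl

variable {S : ShortComplex (EtCoh.Ab X)} (hS : S.ShortExact) {n : ℕ}

theorem Hpull_comp_mk₀ {G G' : EtCoh.Ab X} (g : G ⟶ G') (x : EtCoh.H X G n) :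
    EtCore.Hpull f G' n (x.comp (Ext.mk₀ g) (add_zero n)) =
      (EtCore.Hpull f G n x).comp (Ext.mk₀ ((EtCoh.pull f).map g)) (add_zero n) :=
  T_comp_mk₀ (EtCoh.pull f) (EtCore.pullConst f ℤ).inv x g

theorem Hpull_comp_extClass (x : EtCoh.H X S.X₃ n) {m : ℕ} (h : n + 1 = m) :
    EtCore.Hpull f S.X₁ m (x.comp hS.extClass h) =
      (EtCore.Hpull f S.X₃ n x).comp (hS.map_of_exact (EtCoh.pull f)).extClass h := by
  have h1 := T_comp (EtCoh.pull f) (EtCore.pullConst f ℤ).inv x hS.extClass h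
  rw [Ext.mapExactFunctor_extClass] at h1
  exact h1

include hS

theorem surjective_X₂ (h₁ : Function.Surjective (EtCore.Hpull f S.X₁ n))
    (h₃ : Function.Surjective (EtCore.Hpull f S.X₃ n)) (h₁' : Function.Injective (EtCore.Hpull f S.X₁ (n + 1))) :
    Function.Surjective (EtCore.Hpull f S.X₂ n) := by
  intro y
  have hS' := hS.map_of_exact (EtCoh.pull f)
  obtain ⟨x₃, hx₃⟩ := h₃ (y.comp (Ext.mk₀ ((EtCoh.pull f).map S.g)) (add_zero n))
  have h0 : x₃.comp hS.extClass (rfl : n + 1 = n + 1) = 0 := by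
    refine h₁' ?_
    rw [Hpull_comp_extClass f hS x₃ rfl, hx₃, map_zero, Ext.comp_assoc_of_second_deg_zero]
    erw [hS'.comp_extClass, Ext.comp_zero]
  obtain ⟨x₂, hx₂⟩ := Ext.covariant_sequence_exact₃ _ hS x₃ rfl h0
  obtain ⟨y₁, hy₁⟩ := Ext.covariant_sequence_exact₂ _ hS' (y - EtCore.Hpull f S.X₂ n x₂) (by
    show Ext.comp _ (Ext.mk₀ ((EtCoh.pull f).map S.g)) _ = 0
    rw [sub_eq_add_neg, Ext.add_comp, Ext.neg_comp, ← Hpull_comp_mk₀ f S.g x₂, hx₂, hx₃, add_neg_cancel])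
  obtain ⟨x₁, rfl⟩ := h₁ y₁
  refine ⟨x₂ + x₁.comp (Ext.mk₀ S.f) (add_zero n), ?_⟩
  rw [map_add, Hpull_comp_mk₀]
  erw [hy₁]
  exact add_sub_cancel _ _

theorem injective_X₂_zero (h₁ : Function.Injective (EtCore.Hpull f S.X₁ 0))
    (h₃ : Function.Injective (EtCore.Hpull f S.X₃ 0)) : Function.Injective (EtCore.Hpull f S.X₂ 0) := by
  refine (injective_iff_map_eq_zero _).2 fun x hx => ?_
  obtain ⟨x₁, rfl⟩ := Ext.covariant_sequence_exact₂ _ hS x (h₃ (by
    rw [Hpull_comp_mk₀, hx, Ext.zero_comp, map_zero]))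
  rw [Hpull_comp_mk₀] at hx
  obtain ⟨φ, hφ⟩ := (Ext.mk₀_bijective _ _).2 (EtCore.Hpull f S.X₁ 0 x₁)
  rw [← hφ, Ext.mk₀_comp_mk₀] at hx
  haveI : Mono ((EtCoh.pull f).map S.f) := (hS.map_of_exact (EtCoh.pull f)).mono_f
  have hφ0 : φ = 0 := by
    rw [← cancel_mono ((EtCoh.pull f).map S.f), zero_comp]
    exact (Ext.mk₀_bijective _ _).1 (hx.trans (Ext.mk₀_zero _ _).symm)
  rw [hφ0, Ext.mk₀_zero] at hφ
  rw [h₁ (hφ.symm.trans (map_zero _).symm), Ext.zero_comp]

theorem injective_X₂_succ (h₁ : Function.Injective (EtCore.Hpull f S.X₁ (n + 1)))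
    (h₃ : Function.Injective (EtCore.Hpull f S.X₃ (n + 1))) (h₃' : Function.Surjective (EtCore.Hpull f S.X₃ n)) :
    Function.Injective (EtCore.Hpull f S.X₂ (n + 1)) := by
  refine (injective_iff_map_eq_zero _).2 fun x hx => ?_
  obtain ⟨x₁, rfl⟩ := Ext.covariant_sequence_exact₂ _ hS x (h₃ (by
    rw [Hpull_comp_mk₀, hx, Ext.zero_comp, map_zero]))
  rw [Hpull_comp_mk₀] at hx
  obtain ⟨y₃, hy₃⟩ := Ext.covariant_sequence_exact₁ _ (hS.map_of_exact (EtCoh.pull f)) _ hx (n₀ := n) rfl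
  obtain ⟨x₃, rfl⟩ := h₃' y₃
  have h : x₁ = x₃.comp hS.extClass rfl := h₁ (by rw [Hpull_comp_extClass f hS x₃ rfl]; exact hy₃.symm)
  rw [h, Ext.comp_assoc_of_third_deg_zero]
  simp only [hS.extClass_comp, Ext.comp_zero]

theorem injective_X₂ (h₁ : Function.Injective (EtCore.Hpull f S.X₁ n))
    (h₃ : Function.Injective (EtCore.Hpull f S.X₃ n))
    (h₃' : ∀ m, m + 1 = n → Function.Surjective (EtCore.Hpull f S.X₃ m)) :
    Function.Injective (EtCore.Hpull f S.X₂ n) := by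
  cases n with
  | zero => exact injective_X₂_zero f hS h₁ h₃
  | succ m => exact injective_X₂_succ f hS h₁ h₃ (h₃' m rfl)

end Groth.Agent.EtASLef
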