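import Groth.Agent.EtASLef.Five
import Groth.Agent.EtPBC.ArtinSchreier
import Mathlib

/-!
# The additive group and the Artin–Schreier sequence under pullback
-/

set_option autoImplicit false
set_option backward.isDefEq.respectTransparency false
set_option backward.isDefEq.respectTransparency.types false
set_option linter.style.haveILetI false
set_option linter.auxLemma false

universe u

open CategoryTheory CategoryTheory.Limits CategoryTheory.Abelian AlgebraicGeometry Opposite
open Groth.Agent.EtMV (κ κ_comp κ_bijective r δtop)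
open Groth.Agent.EtPBC (gaSect gaVal asι asι_comp as_shortExact asConst)

noncomputable section

namespace Groth.Agent.EtASLef

attribute [local instance 100000] EtCoh.H._proof_1 EtMV.hext
attribute [local instance 200000] EtMV.hextAb

variable {X Y : Scheme.{u}} (f : Y ⟶ X)

theorem appTop_appTop {A B C : Scheme.{u}} (a : A ⟶ B) (b : B ⟶ C) (x : Γ(C, ⊤)) :
    a.appTop (b.appTop x) = (a ≫ b).appTop x := rfl

/-- functions pull back to functions on the base change -/
def gaToPush : EtCoh.Ga X ⟶ (EtCoh.push f).obj (EtCoh.Ga Y) :=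
  ⟨{ app := fun U => AddCommGrpCat.uliftFunctor.{u + 1}.map
        (AddCommGrpCat.ofHom (pullback.fst U.unop.hom f).appTop.hom.toAddMonoidHom)
     naturality := fun U V g => by
       ext ⟨x⟩
       refine congrArg ULift.up ?_
       show (pullback.fst V.unop.hom f).appTop (g.unop.left.appTop x) =
         ((EtCoh.bc f).map g.unop).left.appTop ((pullback.fst U.unop.hom f).appTop x)
       refine (appTop_appTop (pullback.fst V.unop.hom f) g.unop.left x).trans
         (Eq.trans ?_ (appTop_appTop ((EtCoh.bc f).map g.unop).left (pullback.fst U.unop.hom f) x).symm)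
       exact congrArg (fun h : _ ⟶ U.unop.left => h.appTop x) (pullback.lift_fst _ _ _).symm }⟩

/-- the comparison `f⁻¹ 𝔾ₐ → 𝔾ₐ` -/
def gaPull : (EtCoh.pull f).obj (EtCoh.Ga X) ⟶ EtCoh.Ga Y :=
  ((EtCoh.pullPushAdj f).homEquiv _ _).symm (gaToPush f)

theorem δtop_fst : (δtop f).left ≫ pullback.fst (EtCoh.top X).hom f = f := by
  have h2 : (δtop f).left ≫ pullback.snd (EtCoh.top X).hom f = (EtCoh.top Y).hom := MorphismProperty.Over.w (δtop f)
  have h := congrArg ((δtop f).left ≫ ·) (pullback.condition (f := (EtCoh.top X).hom) (g := f))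
  simp only [← Category.assoc, h2] at h
  exact (Category.comp_id _).symm.trans (h.trans (Category.id_comp _))

theorem gaVal_gaPull_r (s : EtCoh.sect (EtCoh.Ga X) (EtCoh.top X)) :
    gaVal ((gaPull f).hom.app (op (EtCoh.top Y)) (r f (δtop f) (EtCoh.Ga X) s)) = f.appTop (gaVal s) := by
  have h1 : ((EtCoh.pullPushAdj f).unit.app (EtCoh.Ga X)) ≫ (EtCoh.push f).map (gaPull f) = gaToPush f :=
    ((EtCoh.pullPushAdj f).homEquiv_unit ..).symm.trans (Equiv.apply_symm_apply _ _)
  have h2 := ConcreteCategory.congr_hom (congr_app (congrArg (fun z => z.hom) h1) (op (EtCoh.top X))) s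
  rw [r]
  erw [NatTrans.naturality_apply (gaPull f).hom (δtop f).op]
  refine Eq.trans (congrArg (fun z => gaVal ((EtCoh.Ga Y).obj.map (δtop f).op z)) h2) ?_
  show (δtop f).left.appTop ((pullback.fst (EtCoh.top X).hom f).appTop (gaVal s)) = _
  exact (appTop_appTop _ _ _).trans (congrArg (fun h => Scheme.Hom.appTop h (gaVal s)) (δtop_fst f))

section AS

variable (p : ℕ) [hp : Fact p.Prime] (hX : (p : Γ(X, ⊤)) = 0) (hY : (p : Γ(Y, ⊤)) = 0)

theorem gaPull_as : (EtCoh.pull f).map (W4c5etcohweilstudent.artinSchreierEndo X p hp.out hX) ≫ gaPull f =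
    gaPull f ≫ W4c5etcohweilstudent.artinSchreierEndo Y p hp.out hY := by
  rw [gaPull, ← Adjunction.homEquiv_naturality_left_symm, ← Adjunction.homEquiv_naturality_right_symm]
  congr 1
  ext U ⟨x⟩
  refine congrArg ULift.up ?_
  let y : Γ(U.unop.left, ⊤) := x
  show (pullback.fst U.unop.hom f).appTop (y ^ p - y) =
    (pullback.fst U.unop.hom f).appTop y ^ p - (pullback.fst U.unop.hom f).appTop y
  rw [map_sub, map_pow]

theorem gaPull_asι : (EtCoh.pull f).map (asι p hX) ≫ gaPull f = (EtCore.pullConst f (ZMod p)).hom ≫ asι p hY := by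
  rw [← Iso.inv_comp_eq]
  apply ((EtCore.constAdj Y).homEquiv _ _).injective
  ext ⟨m⟩
  rw [Adjunction.homEquiv_unit, Adjunction.homEquiv_unit]
  let M := AddCommGrpCat.of (ULift.{u + 1} (ZMod p))
  let A := ((EtCore.constAdj X).comp (EtCoh.pullPushAdj f)).ofNatIsoRight (EtCore.pushGsecIso f)
  let B := EtCore.constAdj Y
  have h : B.unit.app M ≫ (EtCore.gsec Y).map ((EtCore.pullConstIso f).inv.app M) = A.unit.app M := by
    rw [EtCore.pullConstIso, ← Adjunction.unit_leftAdjointUniq_hom_app A B M, Category.assoc,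
      ← Functor.map_comp, Iso.hom_inv_id_app]
    erw [CategoryTheory.Functor.map_id, Category.comp_id]
  have hA : A.unit.app M = (EtCore.constAdj X).unit.app M ≫
      (EtCore.gsec X).map ((EtCoh.pullPushAdj f).unit.app _) ≫ (EtCore.pushGsecIso f).hom.app _ := by
    have h1 := Adjunction.homEquiv_ofNatIsoRight_apply
      ((EtCore.constAdj X).comp (EtCoh.pullPushAdj f)) (EtCore.pushGsecIso f)
      (𝟙 ((constantSheaf X.smallEtaleTopology AddCommGrpCat.{u + 1} ⋙ EtCoh.pull f).obj M))
    rw [Adjunction.homEquiv_id, Adjunction.homEquiv_id] at h1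
    rw [show A.unit.app M = _ from h1, Adjunction.comp_unit_app, Category.assoc]
    rfl
  have hu : ∀ (W : Scheme.{u}), (EtCore.constAdj W).unit.app M ⟨m⟩ = EtMV.cst (EtCoh.top W) m := fun W => rfl
  have h' := ConcreteCategory.congr_hom (h.trans hA) (⟨m⟩ : ULift.{u + 1} (ZMod p))
  refine Eq.trans (congrArg (fun z => (gaPull f).hom.app (op (EtCoh.top Y))
    (((EtCoh.pull f).map (asι p hX)).hom.app (op (EtCoh.top Y)) z)) h') ?_
  show (gaPull f).hom.app _ (((EtCoh.pull f).map (asι p hX)).hom.app _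
    (r f (δtop f) _ ((EtCore.constAdj X).unit.app M ⟨m⟩))) = (asι p hY).hom.app _ ((EtCore.constAdj Y).unit.app M ⟨m⟩)
  rw [EtMV.r_natural f (δtop f) (asι p hX), hu X, hu Y]
  rw [show (asι p hX).hom.app (op (EtCoh.top X)) (EtMV.cst (EtCoh.top X) m) = asConst p hX m from
    EtPBC.constHom_cst (ZMod p) (EtCoh.Ga X) (asConst p hX) m,
    show (asι p hY).hom.app (op (EtCoh.top Y)) (EtMV.cst (EtCoh.top Y) m) = asConst p hY m from
    EtPBC.constHom_cst (ZMod p) (EtCoh.Ga Y) (asConst p hY) m]
  obtain ⟨i, rfl⟩ := ZMod.intCast_surjective m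
  refine congrArg ULift.up ?_
  have e1 : ∀ (W : Scheme.{u}) (hW : (p : Γ(W, ⊤)) = 0), gaVal (asConst p hW (i : ZMod p)) = (i : Γ(W, ⊤)) := by
    intro W hW
    rw [asConst, ZMod.lift_coe]
    show i • (1 : Γ(W, ⊤)) = _
    rw [zsmul_one]
  refine (gaVal_gaPull_r f (asConst p hX (i : ZMod p))).trans ?_
  rw [e1 X hX, map_intCast]
  exact (e1 Y hY).symm

/-- the map from the pulled back Artin–Schreier sequence -/
def asPullHom [PreservesFiniteLimits (EtCoh.pull f)] :
    (ShortComplex.mk (asι p hX) (W4c5etcohweilstudent.artinSchreierEndo X p hp.out hX) (asι_comp p hX)).map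
      (EtCoh.pull f) ⟶
    ShortComplex.mk (asι p hY) (W4c5etcohweilstudent.artinSchreierEndo Y p hp.out hY) (asι_comp p hY) where
  τ₁ := (EtCore.pullConst f (ZMod p)).hom
  τ₂ := gaPull f
  τ₃ := gaPull f
  comm₁₂ := (gaPull_asι f p hX hY).symm
  comm₂₃ := (gaPull_as f p hX hY).symm

end AS

end Groth.Agent.EtASLef
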