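import Groth.Agent.EtASLef.GaPull
import Groth.Agent.EtPBC.AffineCurveRed
import Mathlib

/-!
# Artin–Schreier comparison of `ℤ/p^m`-cohomology along a morphism
-/

set_option autoImplicit false
set_option backward.isDefEq.respectTransparency false
set_option backward.isDefEq.respectTransparency.types false
set_option linter.style.haveILetI false
set_option linter.auxLemma false
set_option linter.unusedSectionVars false

universe u

open CategoryTheory CategoryTheory.Limits CategoryTheory.Abelian AlgebraicGeometry Opposite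
open Groth.Agent.EtMV (κ κ_comp κ_bijective r δtop)
open Groth.Agent.EtH1PBC (cls cls_eq_zero_iff Hpull_cls pullHom κ_pullHom rTop)
open Groth.Agent.EtPBC (gaSect gaVal asι asι_comp as_shortExact)

noncomputable section

namespace Groth.Agent.EtASLef

attribute [local instance 100000] EtCoh.H._proof_1 EtMV.hext
attribute [local instance 200000] EtMV.hextAb

variable {X Y : Scheme.{u}} (f : Y ⟶ X) [PreservesFiniteLimits (EtCoh.pull f)]
  (p : ℕ) [hp : Fact p.Prime] (hX : (p : Γ(X, ⊤)) = 0) (hY : (p : Γ(Y, ⊤)) = 0)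

local notation "FX" => W4c5etcohweilstudent.artinSchreierEndo X p (Fact.out : p.Prime) hX
local notation "FY" => W4c5etcohweilstudent.artinSchreierEndo Y p (Fact.out : p.Prime) hY

/-- the global function of a map `ℤ ⟶ 𝔾ₐ` -/
def fn {Z : Scheme.{u}} (ψ : EtCoh.const Z ℤ ⟶ EtCoh.Ga Z) : Γ(Z, ⊤) := gaVal (κ ψ)

theorem fn_bijective (Z : Scheme.{u}) : Function.Bijective (fn : (EtCoh.const Z ℤ ⟶ EtCoh.Ga Z) → Γ(Z, ⊤)) :=
  ⟨fun _ _ h => (κ_bijective _).1 (congrArg ULift.up h),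
   fun x => (((κ_bijective (EtCoh.Ga Z)).2 (gaSect (U := EtCoh.top Z) x))).elim fun ψ hψ => ⟨ψ, congrArg gaVal hψ⟩⟩

theorem fn_zero {Z : Scheme.{u}} : fn (0 : EtCoh.const Z ℤ ⟶ EtCoh.Ga Z) = 0 := rfl

theorem fn_as {Z : Scheme.{u}} (h0 : (p : Γ(Z, ⊤)) = 0) (ψ : EtCoh.const Z ℤ ⟶ EtCoh.Ga Z) :
    fn (ψ ≫ W4c5etcohweilstudent.artinSchreierEndo Z p hp.out h0) = fn ψ ^ p - fn ψ := rfl

theorem fn_gaPull (ψ : EtCoh.const X ℤ ⟶ EtCoh.Ga X) : fn (pullHom f ψ ≫ gaPull f) = f.appTop (fn ψ) := by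
  rw [fn, κ_comp, κ_pullHom]
  exact gaVal_gaPull_r f (κ ψ)

/-- the Artin–Schreier sequence -/
abbrev asSeq (Z : Scheme.{u}) (h0 : (p : Γ(Z, ⊤)) = 0) : ShortComplex (EtCoh.Ab Z) :=
  ShortComplex.mk (asι p h0) (W4c5etcohweilstudent.artinSchreierEndo Z p hp.out h0) (asι_comp p h0)

theorem subsingleton_H_zmod {Z : Scheme.{u}} (h0 : (p : Γ(Z, ⊤)) = 0) (q : ℕ)
    (h₁ : Subsingleton (EtCoh.H Z (EtCoh.Ga Z) (q + 1))) (h₂ : Subsingleton (EtCoh.H Z (EtCoh.Ga Z) q)) :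
    Subsingleton (EtCoh.H Z (EtCoh.const Z (ZMod p)) (q + 1)) := by
  refine subsingleton_of_forall_eq 0 fun x => ?_
  obtain ⟨y, hy⟩ := Ext.covariant_sequence_exact₁ (EtCoh.const Z ℤ) (as_shortExact p h0) x
    (@Subsingleton.elim (EtCoh.H Z (EtCoh.Ga Z) (q + 1)) h₁ _ _) (n₀ := q) rfl
  rw [← hy, show y = 0 from @Subsingleton.elim (EtCoh.H Z (EtCoh.Ga Z) q) h₂ _ _, Ext.zero_comp]

theorem exists_cls_as {Z : Scheme.{u}} (h0 : (p : Γ(Z, ⊤)) = 0) (h₁ : Subsingleton (EtCoh.H Z (EtCoh.Ga Z) 1))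
    (x : EtCoh.H Z (EtCoh.const Z (ZMod p)) 1) : ∃ ψ, cls (as_shortExact p h0) ψ = x := by
  obtain ⟨y, hy⟩ := Ext.covariant_sequence_exact₁ (EtCoh.const Z ℤ) (as_shortExact p h0) x
    (@Subsingleton.elim (EtCoh.H Z (EtCoh.Ga Z) 1) h₁ _ _) (n₀ := 0) rfl
  obtain ⟨ψ, rfl⟩ := (Ext.mk₀_bijective _ _).2 y
  exact ⟨ψ, hy⟩

theorem Hpull_cls_as (ψ : EtCoh.const X ℤ ⟶ EtCoh.Ga X) :
    Ext.comp (EtCore.Hpull f (EtCoh.const X (ZMod p)) 1 (cls (as_shortExact p hX) ψ))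
      (Ext.mk₀ (EtCore.pullConst f (ZMod p)).hom) (add_zero 1) =
      cls (as_shortExact p hY) (pullHom f ψ ≫ gaPull f) := by
  have h1 : EtCore.Hpull f (asSeq p X hX).X₁ 1 (cls (as_shortExact p hX) ψ) =
      cls ((as_shortExact p hX).map_of_exact (EtCoh.pull f)) (pullHom f ψ) := Hpull_cls f (as_shortExact p hX) ψ
  have hn := ShortComplex.ShortExact.extClass_naturality ((as_shortExact p hX).map_of_exact (EtCoh.pull f))
    (as_shortExact p hY) (asPullHom f p hX hY)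
  refine (congrArg (fun z => Ext.comp z (Ext.mk₀ (EtCore.pullConst f (ZMod p)).hom) (add_zero 1)) h1).trans ?_
  show Ext.comp (Ext.comp (Ext.mk₀ (pullHom f ψ)) _ (zero_add 1)) (Ext.mk₀ (asPullHom f p hX hY).τ₁) (add_zero 1) = _
  rw [Ext.comp_assoc_of_third_deg_zero, hn, cls, ← Ext.mk₀_comp_mk₀, Ext.comp_assoc_of_second_deg_zero]
  rfl

include hX hY

theorem injective_Hpull_zero (hf : Function.Injective f.appTop) :
    Function.Injective (EtCore.Hpull f (EtCoh.const X (ZMod p)) 0) := by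
  refine (injective_iff_map_eq_zero _).2 fun x hx => ?_
  obtain ⟨φ, rfl⟩ := (Ext.mk₀_bijective _ _).2 x
  haveI := EtPBC.mono_asι p hX
  have e : EtCore.Hpull f (EtCoh.const X (ZMod p)) 0 (Ext.mk₀ φ) = Ext.mk₀ (pullHom f φ) :=
    EtMV.T_mk₀ (EtCoh.pull f) (EtCore.pullConst f ℤ).inv φ
  rw [e] at hx
  have h0 : pullHom f φ = 0 := (Ext.mk₀_bijective _ _).1 (hx.trans (Ext.mk₀_zero _ _).symm)
  have h1 : fn (φ ≫ asι p hX) = 0 := by
    refine hf ?_
    rw [← fn_gaPull f, map_zero, pullHom, Functor.map_comp, ← Category.assoc]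
    rw [show ((EtCore.pullConst f ℤ).inv ≫ (EtCoh.pull f).map φ) = 0 from h0, zero_comp, zero_comp]
    rfl
  rw [show φ = 0 from (cancel_mono (asι p hX)).1 (((fn_bijective X).1 (h1.trans fn_zero.symm)).trans zero_comp.symm),
    Ext.mk₀_zero]

theorem surjective_Hpull_zero (hf : Function.Bijective f.appTop) :
    Function.Surjective (EtCore.Hpull f (EtCoh.const X (ZMod p)) 0) := by
  intro y
  obtain ⟨χ, rfl⟩ := (Ext.mk₀_bijective _ _).2 y
  haveI := EtPBC.mono_asι p hX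
  haveI := EtPBC.mono_asι p hY
  let ψY : EtCoh.const Y ℤ ⟶ EtCoh.Ga Y := χ ≫ (EtCore.pullConst f (ZMod p)).hom ≫ asι p hY
  have hψY : ψY ≫ FY = 0 := by simp only [ψY, Category.assoc, asι_comp, comp_zero]
  obtain ⟨a, ha⟩ := hf.2 (fn ψY)
  obtain ⟨ψ, rfl⟩ := (fn_bijective X).2 a
  have hψ : ψ ≫ FX = 0 := by
    refine (fn_bijective X).1 (hf.1 ?_)
    rw [fn_as, map_sub, map_pow, ha, ← fn_as p hY, hψY, fn_zero, fn_zero, map_zero]
  obtain ⟨φ, hφ⟩ : ∃ φ : EtCoh.const X ℤ ⟶ EtCoh.const X (ZMod p), φ ≫ asι p hX = ψ := by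
    haveI : Mono (asSeq p X hX).f := EtPBC.mono_asι p hX
    exact ⟨(as_shortExact p hX).exact.lift ψ hψ, (as_shortExact p hX).exact.lift_f ψ hψ⟩
  refine ⟨Ext.mk₀ φ, ?_⟩
  have e : EtCore.Hpull f (EtCoh.const X (ZMod p)) 0 (Ext.mk₀ φ) = Ext.mk₀ (pullHom f φ) :=
    EtMV.T_mk₀ (EtCoh.pull f) (EtCore.pullConst f ℤ).inv φ
  rw [e]
  refine congrArg Ext.mk₀ ?_
  rw [← cancel_mono ((EtCore.pullConst f (ZMod p)).hom ≫ asι p hY)]
  refine (fn_bijective Y).1 ?_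
  rw [← gaPull_asι f p hX hY, pullHom]
  simp only [Category.assoc]
  rw [← Functor.map_comp_assoc, hφ, ← Category.assoc, show (EtCore.pullConst f ℤ).inv ≫ (EtCoh.pull f).map ψ =
    pullHom f ψ from rfl, fn_gaPull, ha]
  simp only [ψY]
  rw [← gaPull_asι f p hX hY]

theorem injective_Hpull_one (hf : Function.Bijective f.appTop) (h₁ : Subsingleton (EtCoh.H X (EtCoh.Ga X) 1)) :
    Function.Injective (EtCore.Hpull f (EtCoh.const X (ZMod p)) 1) := by
  refine (injective_iff_map_eq_zero _).2 fun x hx => ?_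
  obtain ⟨ψ, rfl⟩ := exists_cls_as p hX h₁ x
  have h := Hpull_cls_as f p hX hY ψ
  rw [hx, Ext.zero_comp] at h
  obtain ⟨φ', hφ'⟩ := (cls_eq_zero_iff _ _).1 h.symm
  obtain ⟨a, ha⟩ := hf.2 (fn φ')
  obtain ⟨φ, rfl⟩ := (fn_bijective X).2 a
  refine (cls_eq_zero_iff _ _).2 ⟨φ, (fn_bijective X).1 (hf.1 ?_)⟩
  show f.appTop (fn (φ ≫ FX)) = f.appTop (fn ψ)
  rw [fn_as, map_sub, map_pow, ha, ← fn_as p hY, ← fn_gaPull f ψ]
  exact congrArg fn hφ'

theorem surjective_Hpull_one (hf : Function.Bijective f.appTop) (h₁ : Subsingleton (EtCoh.H Y (EtCoh.Ga Y) 1)) :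
    Function.Surjective (EtCore.Hpull f (EtCoh.const X (ZMod p)) 1) := by
  intro y
  obtain ⟨ψ', hψ'⟩ := exists_cls_as p hY h₁ (Ext.comp y (Ext.mk₀ (EtCore.pullConst f (ZMod p)).hom) (add_zero 1))
  obtain ⟨a, ha⟩ := hf.2 (fn ψ')
  obtain ⟨ψ, rfl⟩ := (fn_bijective X).2 a
  refine ⟨cls (as_shortExact p hX) ψ, ?_⟩
  have h := Hpull_cls_as f p hX hY ψ
  rw [(fn_bijective Y).1 (a₁ := pullHom f ψ ≫ gaPull f) (a₂ := ψ') ((fn_gaPull f ψ).trans ha), hψ'] at h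
  have h2 := congrArg (fun z => Ext.comp z (Ext.mk₀ (EtCore.pullConst f (ZMod p)).inv) (add_zero 1)) h
  simp only [Ext.comp_assoc_of_second_deg_zero, Ext.mk₀_comp_mk₀, Iso.hom_inv_id, Ext.comp_mk₀_id] at h2
  exact h2

/-- **prime coefficients** -/
theorem bij_and_inj_zmod (hf : Function.Bijective f.appTop) (D : ℕ)
    (hXv : ∀ q, 1 ≤ q → q ≤ D → Subsingleton (EtCoh.H X (EtCoh.Ga X) q))
    (hYv : ∀ q, 1 ≤ q → q < D → Subsingleton (EtCoh.H Y (EtCoh.Ga Y) q)) (i : ℕ) :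
    (i < D → Function.Bijective (EtCore.Hpull f (EtCoh.const X (ZMod p)) i)) ∧
      (i ≤ D → Function.Injective (EtCore.Hpull f (EtCoh.const X (ZMod p)) i)) := by
  match i with
  | 0 => exact ⟨fun _ => ⟨injective_Hpull_zero f p hX hY hf.1, surjective_Hpull_zero f p hX hY hf⟩,
      fun _ => injective_Hpull_zero f p hX hY hf.1⟩
  | 1 => exact ⟨fun h => ⟨injective_Hpull_one f p hX hY hf (hXv 1 le_rfl h.le),
        surjective_Hpull_one f p hX hY hf (hYv 1 le_rfl h)⟩,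
      fun h => injective_Hpull_one f p hX hY hf (hXv 1 le_rfl h)⟩
  | q + 2 =>
    have hinj : q + 2 ≤ D → Function.Injective (EtCore.Hpull f (EtCoh.const X (ZMod p)) (q + 2)) := fun h x y _ =>
      @Subsingleton.elim _ (subsingleton_H_zmod p hX (q + 1) (hXv _ (by omega) h) (hXv _ (by omega) (by omega))) x y
    refine ⟨fun h => ⟨hinj h.le, fun y => ⟨0, ?_⟩⟩, hinj⟩
    haveI := subsingleton_H_zmod p hY (q + 1) (hYv (q + 2) (by omega) h) (hYv (q + 1) (by omega) (by omega))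
    have h2 : Ext.comp y (Ext.mk₀ (EtCore.pullConst f (ZMod p)).hom) (add_zero (q + 2)) = 0 :=
      @Subsingleton.elim (EtCoh.H Y (EtCoh.const Y (ZMod p)) (q + 2)) _ _ _
    have h3 := congrArg (fun z => Ext.comp z (Ext.mk₀ (EtCore.pullConst f (ZMod p)).inv) (add_zero (q + 2))) h2
    simp only [Ext.comp_assoc_of_second_deg_zero, Ext.mk₀_comp_mk₀, Iso.hom_inv_id, Ext.comp_mk₀_id,
      Ext.zero_comp] at h3
    rw [map_zero]
    exact h3.symm

/-- **prime power coefficients** -/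
theorem bij_and_inj_zmod_pow (hf : Function.Bijective f.appTop) (D : ℕ)
    (hXv : ∀ q, 1 ≤ q → q ≤ D → Subsingleton (EtCoh.H X (EtCoh.Ga X) q))
    (hYv : ∀ q, 1 ≤ q → q < D → Subsingleton (EtCoh.H Y (EtCoh.Ga Y) q)) :
    ∀ m : ℕ, 1 ≤ m → ∀ i,
    (i < D → Function.Bijective (EtCore.Hpull f (EtCoh.const X (ZMod (p ^ m))) i)) ∧
      (i ≤ D → Function.Injective (EtCore.Hpull f (EtCoh.const X (ZMod (p ^ m))) i)) := by
  intro m hm
  induction m, hm using Nat.le_induction with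
  | base =>
    rw [pow_one]
    exact bij_and_inj_zmod f p hX hY hf D hXv hYv
  | succ m hm ih =>
    intro i
    have hP := bij_and_inj_zmod f p hX hY hf D hXv hYv
    rw [pow_succ']
    have hS : ((EtPBC.zmodSeq.{u} p (p ^ m)).map (EtPBC.cstF X)).ShortExact :=
      EtPBC.shortExact_map (EtPBC.cstF X) (EtPBC.zmodSeq_shortExact.{u} p (p ^ m) (pow_ne_zero m hp.out.ne_zero))
    exact ⟨fun h => ⟨injective_X₂ f hS ((hP i).2 h.le) ((ih i).2 h.le)
          (fun j hj => ((ih j).1 (by omega)).2),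
        surjective_X₂ f hS ((hP i).1 h).2 ((ih i).1 h).2 ((hP (i + 1)).2 h)⟩,
      fun h => injective_X₂ f hS ((hP i).2 h) ((ih i).2 h) (fun j hj => ((ih j).1 (by omega)).2)⟩

end Groth.Agent.EtASLef
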